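import Cfsg.Agent.CoThreeModel.Data

/-!
Centraliser tests for the Conway group Co3 (Y), in chunks.
-/

set_option autoImplicit false
set_option Elab.async false

namespace Cfsg.Lib.CoThreeModel

open Cfsg.Lib.CosetCert Cfsg.Lib.CosetCert.OutCert

theorem testY_0 : (List.range' 0 23).all (fun r => data.testY r r) = true := by decide +kernel

theorem testY_1 : (List.range' 23 23).all (fun r => data.testY r r) = true := by decide +kernel

theorem testY_2 : (List.range' 46 23).all (fun r => data.testY r r) = true := by decide +kernel

theorem testY_3 : (List.range' 69 23).all (fun r => data.testY r r) = true := by decide +kernel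

theorem testY_4 : (List.range' 92 23).all (fun r => data.testY r r) = true := by decide +kernel

theorem testY_5 : (List.range' 115 23).all (fun r => data.testY r r) = true := by decide +kernel

theorem testY_6 : (List.range' 138 23).all (fun r => data.testY r r) = true := by decide +kernel

theorem testY_7 : (List.range' 161 23).all (fun r => data.testY r r) = true := by decide +kernel

theorem testY_8 : (List.range' 184 23).all (fun r => data.testY r r) = true := by decide +kernel

theorem testY_9 : (List.range' 207 23).all (fun r => data.testY r r) = true := by decide +kernel

theorem testY_10 : (List.range' 230 23).all (fun r => data.testY r r) = true := by decide +kernel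

theorem testY_11 : (List.range' 253 23).all (fun r => data.testY r r) = true := by decide +kernel

theorem testY_all {r : ℕ} (h : r < 276) : data.testY r r = true := by
  by_cases h0 : r < 23
  · exact List.all_eq_true.1 testY_0 r (List.mem_range'_1.2 (by omega))
  by_cases h1 : r < 46
  · exact List.all_eq_true.1 testY_1 r (List.mem_range'_1.2 (by omega))
  by_cases h2 : r < 69
  · exact List.all_eq_true.1 testY_2 r (List.mem_range'_1.2 (by omega))
  by_cases h3 : r < 92
  · exact List.all_eq_true.1 testY_3 r (List.mem_range'_1.2 (by omega))
  by_cases h4 : r < 115
  · exact List.all_eq_true.1 testY_4 r (List.mem_range'_1.2 (by omega))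
  by_cases h5 : r < 138
  · exact List.all_eq_true.1 testY_5 r (List.mem_range'_1.2 (by omega))
  by_cases h6 : r < 161
  · exact List.all_eq_true.1 testY_6 r (List.mem_range'_1.2 (by omega))
  by_cases h7 : r < 184
  · exact List.all_eq_true.1 testY_7 r (List.mem_range'_1.2 (by omega))
  by_cases h8 : r < 207
  · exact List.all_eq_true.1 testY_8 r (List.mem_range'_1.2 (by omega))
  by_cases h9 : r < 230
  · exact List.all_eq_true.1 testY_9 r (List.mem_range'_1.2 (by omega))
  by_cases h10 : r < 253
  · exact List.all_eq_true.1 testY_10 r (List.mem_range'_1.2 (by omega))
  exact List.all_eq_true.1 testY_11 r (List.mem_range'_1.2 (by omega))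

end Cfsg.Lib.CoThreeModel
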