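import Cfsg.Agent.CoThreeModel.Checks
import Cfsg.Agent.CoThreeModel.TestU
import Cfsg.Agent.CoThreeModel.TestY
import Cfsg.Agent.Leech.PointSimple
import Cfsg.Agent.Leech.Stab.Configurations
import Cfsg.Prelude.Def_Spor_Conway

/-!
The Conway group Co3 as a permutation group on 276 pairs of vectors, and its outer automorphism group.
-/

set_option autoImplicit false
set_option maxRecDepth 8000
set_option Elab.async false

namespace Cfsg.Lib.CoThreeModel

open Cfsg Cfsg.Lib.CosetCert Cfsg.Lib.CosetCert.OutCert Cfsg.Lib.Leech Cfsg.Lib.Leech.Stab Cfsg.Lib.Golay MulAction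
open Cfsg.Lib.Leech.Mult (el el_smul)

theorem valid_data : data.Valid where
  prime := by show Nat.Prime 23; norm_num
  static := static_ok
  local_ := local_ok
  testU _ hr := testU_all hr
  testY r₁ h₁ r₂ _ h := by
    rw [← h rfl]
    exact testY_all h₁

theorem key_facts (i : Fin 276) : inL (dec (key i.val)) = true ∧ Cfsg.sqNorm (dec (key i.val)) = 32 ∧
    key i.val < 2 ^ 120 ∧ mate i.val < 2 ^ 120 ∧ dotK kD (key i.val) = 24 := by
  have h := List.all_eq_true.1 keys_short i.val (List.mem_range.2 i.isLt)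
  simp only [Bool.and_eq_true, decide_eq_true_eq, beq_iff_eq] at h
  exact ⟨h.1.1.1.1, h.1.1.1.2, Nat.le_of_ble_eq_true h.1.1.2, Nat.le_of_ble_eq_true h.1.2, h.2⟩

theorem key_short (i : Fin 276) : Short (key i.val) :=
  ⟨mem_of_inL (key_facts i).1, (key_facts i).2.1.le.trans (by norm_num)⟩

/-- The chosen vector of a pair, or the other one. -/
noncomputable def vec : Fin 276 × Bool → leechLattice
  | (i, false) => ⟨dec (key i.val), (key_short i).1⟩
  | (i, true) => bD - ⟨dec (key i.val), (key_short i).1⟩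

theorem vec_true (i : Fin 276) : (vec (i, true) : GolayPt → ℤ) = dec (mate i.val) := by
  funext p
  have h := List.all_eq_true.1 (List.all_eq_true.1 mates_ok i.val (List.mem_range.2 i.isLt)) (pidx p)
    (List.mem_range.2 (pidx_lt p))
  rw [beq_iff_eq] at h
  show vD p - dec (key i.val) p = _
  rw [← dec_kD]
  exact h.symm

/-- The set of 552 vectors. -/
def shell : Set leechLattice :=
  {x | Cfsg.sqNorm (x : GolayPt → ℤ) = 32 ∧
    Cfsg.sqNorm ((bD : GolayPt → ℤ) - (x : GolayPt → ℤ)) = 32}

theorem shell_card : shell.ncard = 552 := six_census bD vD_ok.2.1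

theorem vec_mem (a : Fin 276 × Bool) : vec a ∈ shell := by
  obtain ⟨i, b⟩ := a
  have hn := (key_facts i).2.1
  have hd : dotInt vD (dec (key i.val)) = 24 := by
    rw [← dec_kD]
    exact (dotK_eq kD (key i.val)).symm.trans (key_facts i).2.2.2.2
  have hs : Cfsg.sqNorm (vD - dec (key i.val)) = 32 := (sub_norm_iff vD_ok.2.1 hn).2 hd
  cases b
  · exact ⟨hn, hs⟩
  · refine ⟨hs, ?_⟩
    show Cfsg.sqNorm (vD - (vD - dec (key i.val))) = 32
    rw [sub_sub_cancel]
    exact hn

theorem vec_inj : Function.Injective vec := by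
  have ek : ∀ (i : Fin 276) (b : Bool), (vec (i, b) : GolayPt → ℤ) = dec (if b then mate i.val else key i.val) :=
    fun i b => by
      cases b
      · rfl
      · exact vec_true i
  have hb : ∀ (i : Fin 276) (b : Bool), (if b then mate i.val else key i.val) < 2 ^ 120 := fun i b => by
    cases b
    · exact (key_facts i).2.2.1
    · exact (key_facts i).2.2.2.1
  intro a a' h
  obtain ⟨i, b⟩ := a
  obtain ⟨j, c⟩ := a'
  have e := key_ext (hb i b) (hb j c) (by rw [← ek, ← ek, h])
  have d := fun (x : Fin 276) => List.all_eq_true.1 keys_distinct x.val (List.mem_range.2 x.isLt)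
  simp only [Bool.and_eq_true, List.all_eq_true, List.mem_range, bne_iff_ne] at d
  rcases lt_trichotomy i.val j.val with h1 | h1 | h1
  · have := (d j).2 i.val h1
    cases b <;> cases c <;> simp only [Bool.false_eq_true, if_false, if_true] at e <;>
      first
      | exact absurd e.symm this.1.1.1
      | exact absurd e.symm this.1.1.2
      | exact absurd e.symm this.1.2
      | exact absurd e.symm this.2
  · obtain rfl : i = j := Fin.ext h1
    cases b <;> cases c <;> simp only [Bool.false_eq_true, if_false, if_true] at e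
    · rfl
    · exact absurd e (d i).1
    · exact absurd e.symm (d i).1
    · rfl
  · have := (d i).2 j.val h1
    cases b <;> cases c <;> simp only [Bool.false_eq_true, if_false, if_true] at e <;>
      first
      | exact absurd e this.1.1.1
      | exact absurd e this.1.1.2
      | exact absurd e this.1.2
      | exact absurd e this.2

/-- Pairs with a side, and vectors. -/
noncomputable def vEquiv : Fin 276 × Bool ≃ shell := by
  refine Equiv.ofBijective (fun a => ⟨vec a, vec_mem a⟩) ?_
  haveI : Finite shell := Set.finite_of_ncard_ne_zero (by rw [shell_card]; norm_num)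
  refine (Nat.bijective_iff_injective_and_card _).2 ⟨fun i j h => vec_inj (congrArg Subtype.val h), ?_⟩
  rw [Nat.card_coe_set_eq, shell_card, Nat.card_prod, Nat.card_fin, Nat.card_eq_fintype_card (α := Bool),
    Fintype.card_bool]

/-- The stabiliser of the base vector. -/
abbrev coGrp : Subgroup Co0 := stabilizer Co0 bD

theorem smul_sub_bD (g : coGrp) (x : leechLattice) : (g : Co0) • (bD - x) = bD - (g : Co0) • x := by
  let F : leechLattice →+ leechLattice :=
    AddMonoidHom.mk' (fun v => ((g : Co0) : Equiv.Perm leechLattice) v) (g : Co0).2.1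
  show F (bD - x) = bD - F x
  rw [map_sub, show F bD = bD from g.2]

theorem shell_smul (g : coGrp) {x : leechLattice} (hx : x ∈ shell) : (g : Co0) • x ∈ shell := by
  refine ⟨((g : Co0).2.2 x).trans hx.1, ?_⟩
  show Cfsg.sqNorm ((bD - (g : Co0) • x : leechLattice) : GolayPt → ℤ) = 32
  rw [← smul_sub_bD]
  exact ((g : Co0).2.2 (bD - x)).trans hx.2

/-- The pair of the image of a side. -/
noncomputable def imgOf (g : coGrp) (a : Fin 276 × Bool) : Fin 276 × Bool :=
  vEquiv.symm ⟨(g : Co0) • vec a, shell_smul g (vec_mem a)⟩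

theorem vec_imgOf (g : coGrp) (a : Fin 276 × Bool) : vec (imgOf g a) = (g : Co0) • vec a :=
  congrArg Subtype.val (Equiv.apply_symm_apply vEquiv ⟨(g : Co0) • vec a, shell_smul g (vec_mem a)⟩)

theorem imgOf_fst (g : coGrp) (i : Fin 276) (b : Bool) : (imgOf g (i, b)).1 = (imgOf g (i, false)).1 := by
  cases b
  · rfl
  have key : imgOf g (i, true) = ((imgOf g (i, false)).1, !(imgOf g (i, false)).2) := vec_inj (by
    rw [vec_imgOf]
    have h := vec_imgOf g (i, false)
    generalize imgOf g (i, false) = t at h ⊢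
    obtain ⟨j, c⟩ := t
    show (g : Co0) • (bD - vec (i, false)) = _
    rw [smul_sub_bD, ← h]
    cases c
    · rfl
    · exact sub_sub_cancel bD _)
  rw [key]

theorem imgOf_mul (g g' : coGrp) (a : Fin 276 × Bool) : imgOf (g * g') a = imgOf g (imgOf g' a) :=
  vec_inj (by rw [vec_imgOf, vec_imgOf, vec_imgOf, Subgroup.coe_mul, mul_smul])

theorem imgOf_one (a : Fin 276 × Bool) : imgOf 1 a = a := vec_inj (by rw [vec_imgOf, Subgroup.coe_one, one_smul])

theorem pair_mul (g g' : coGrp) (i : Fin 276) :
    (imgOf (g * g') (i, false)).1 = (imgOf g ((imgOf g' (i, false)).1, false)).1 := by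
  rw [imgOf_mul, ← imgOf_fst g _ (imgOf g' (i, false)).2]

/-- The action on pairs. -/
noncomputable def phi : coGrp →* Equiv.Perm (Fin 276) :=
  MonoidHom.mk' (fun g =>
    { toFun := fun i => (imgOf g (i, false)).1
      invFun := fun i => (imgOf g⁻¹ (i, false)).1
      left_inv := fun i => by
        show (imgOf g⁻¹ ((imgOf g (i, false)).1, false)).1 = i
        rw [← pair_mul, inv_mul_cancel, imgOf_one]
      right_inv := fun i => by
        show (imgOf g ((imgOf g⁻¹ (i, false)).1, false)).1 = i
        rw [← pair_mul, mul_inv_cancel, imgOf_one] }) fun g g' => Equiv.ext fun i => pair_mul g g' i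

theorem gen_mem {j : ℕ} (hj : j < 2) : data.im (8 + j) ∈ phi.range := by
  have h := List.all_eq_true.1 atoms_ok j (List.mem_range.2 hj)
  simp only [Bool.and_eq_true, beq_iff_eq] at h
  obtain ⟨⟨hok, hD⟩, hmap⟩ := h
  obtain ⟨h1, e1⟩ := el_smul hok short_base.1
  have hfix : el (atomsOf j) • bD = bD := by
    have eb : bD = ⟨dec kD, short_base.1.1⟩ := Subtype.ext dec_kD.symm
    rw [eb]
    exact e1.trans (Subtype.ext (congrArg dec hD))
  let g : coGrp := ⟨el (atomsOf j), mem_stabilizer_iff.2 hfix⟩
  have hl' : 8 + j < data.xTabs.length := by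
    show 8 + j < 10
    omega
  refine ⟨g, Equiv.ext fun i => ?_⟩
  have hv := (valid_data.act _ hl').1
  set t : Fin 276 := Cfsg.Lib.PermCert.perm data.n (data.xTabs.getD (8 + j) (0, 0)) i with ht
  have htv : t.val = Cfsg.Lib.PermCert.ap (data.xTabs.getD (8 + j) (0, 0)).1 i.val :=
    Cfsg.Lib.PermCert.perm_apply hv (i : Fin data.n)
  show (imgOf g (i, false)).1 = t
  obtain ⟨h2, e2⟩ := el_smul hok (key_short i)
  have hm := List.all_eq_true.1 hmap i.val (List.mem_range.2 i.isLt)
  rw [Bool.or_eq_true, beq_iff_eq, beq_iff_eq, ← htv] at hm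
  rcases hm with hm | hm
  · rw [show imgOf g (i, false) = (t, false) from
      vec_inj ((vec_imgOf g _).trans (e2.trans (Subtype.ext (congrArg dec hm))))]
  · rw [show imgOf g (i, false) = (t, true) from
      vec_inj ((vec_imgOf g _).trans (e2.trans (Subtype.ext ((congrArg dec hm).trans (vec_true t).symm))))]

theorem im_mem {l : ℕ} (hl : l < 4) : data.im l ∈ phi.range := by
  have h := List.all_eq_true.1 perms_ok l (List.mem_range.2 hl)
  simp only [Bool.and_eq_true, List.all_eq_true, Bool.or_eq_true, beq_iff_eq] at h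
  rw [← Data.wval_one, valid_data.sameW_sound h.1]
  refine phi.range.list_prod_mem fun q hq => ?_
  obtain ⟨a, ha, rfl⟩ := List.mem_map.1 hq
  rcases h.2 a ha with rfl | rfl
  · exact gen_mem (j := 0) (by norm_num)
  · exact gen_mem (j := 1) (by norm_num)

theorem phi_injective : Function.Injective phi := by
  haveI : IsSimpleGroup coGrp := (isCo3_stabilizer (v := bD) vD_ok.2.1).1
  rcases (inferInstance : phi.ker.Normal).eq_bot_or_eq_top with h | h
  · exact (MonoidHom.ker_eq_bot_iff phi).mp h
  · exfalso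
    obtain ⟨i, hi, hmv⟩ := List.any_eq_true.1 letter_moves
    rw [List.mem_range] at hi
    obtain ⟨g, hg⟩ := im_mem (show (0 : ℕ) < 4 by norm_num)
    have h1 : data.im 0 = 1 := by rw [← hg]; exact MonoidHom.mem_ker.1 (h ▸ Subgroup.mem_top g)
    have hi' : i < data.n := hi
    have h2 : (data.im 0 ⟨i, hi'⟩).val = i := by
      rw [h1]
      rfl
    exact bne_iff_ne.1 hmv ((Cfsg.Lib.PermCert.perm_apply (valid_data.act 0
      (show 0 < data.xTabs.length by show 0 < 10; norm_num)).1 ⟨i, hi'⟩).symm.trans h2)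

theorem grp_eq : data.grp = phi.range ∧ Nat.card data.grp = 495766656000 := by
  have hle : data.grp ≤ phi.range := (Subgroup.closure_le _).2 (by
    rintro _ ⟨l, hl, rfl⟩
    exact im_mem hl)
  have hc : Nat.card phi.range = 495766656000 := by
    rw [← Nat.card_congr (MonoidHom.ofInjective phi_injective).toEquiv]
    exact card_stabilizer48 (v := bD) vD_ok.2.1
  have heq : data.grp = phi.range := Subgroup.eq_of_le_of_card_ge hle (hc ▸ valid_data.card_ge)
  exact ⟨heq, heq ▸ hc⟩

theorem exists_equiv : Nonempty (↥Cfsg.Spor.Co3 ≃* ↥data.grp) := by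
  have hd : Cfsg.sqNorm ((Cfsg.Spor.leechV : leechLattice) : GolayPt → ℤ) = 48 := by
    show Cfsg.sqNorm Cfsg.Spor.vecV = 48
    decide +kernel
  obtain ⟨c, hc⟩ := transitive48 Cfsg.Spor.leechV bD hd vD_ok.2.1
  let e : ↥Cfsg.Spor.Co3 ≃* ↥(stabilizer Co0 Cfsg.Spor.leechV) :=
    { toFun := fun g => ⟨⟨g.1, (Subgroup.mem_inf.1 g.2).1⟩, (Subgroup.mem_inf.1 g.2).2⟩
      invFun := fun g => ⟨(g.1 : Equiv.Perm leechLattice), Subgroup.mem_inf.2 ⟨g.1.2, g.2⟩⟩
      left_inv := fun _ => rfl
      right_inv := fun _ => rfl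
      map_mul' := fun _ _ => rfl }
  exact ⟨((e.trans (MulAction.stabilizerEquivStabilizer hc.symm)).trans (MonoidHom.ofInjective phi_injective)).trans
    (MulEquiv.subgroupCongr grp_eq.1.symm)⟩

/-- The outer automorphism group of the Conway group Co3 is trivial. -/
theorem card_out : Nat.card (Cfsg.Out ↥Cfsg.Spor.Co3) = 1 := by
  obtain ⟨e⟩ := exists_equiv
  rw [Nat.card_congr (outCongr e).toEquiv]
  exact valid_data.out_one grp_eq.2 rfl

end Cfsg.Lib.CoThreeModel
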