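import Cfsg.Agent.CoThreeModel.Data
import Cfsg.Agent.Leech.Mult.Elem
import Cfsg.Agent.Leech.Stab.Data

/-!
Kernel checks for the Conway group Co3 on 276 pairs of vectors.
-/

set_option autoImplicit false
set_option Elab.async false

namespace Cfsg.Lib.CoThreeModel

open Cfsg Cfsg.Lib.CosetCert Cfsg.Lib.CosetCert.OutCert Cfsg.Lib.Leech Cfsg.Lib.Leech.Stab Cfsg.Lib.Golay

theorem static_ok : data.staticOK = true := by decide +kernel

theorem local_ok : data.localOK = true := by decide +kernel

/-- The key of a pair's chosen vector. -/
def key (i : ℕ) : ℕ := keys.getD i 0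

/-- The key of the other vector of a pair. -/
def mate (i : ℕ) : ℕ := partners.getD i 0

theorem keys_short : ((List.range 276).all fun i => inL (dec (key i)) && decide (Cfsg.sqNorm (dec (key i)) = 32) &&
    Nat.blt (key i) (2 ^ 120) && Nat.blt (mate i) (2 ^ 120) && (dotK kD (key i) == 24)) = true := by decide +kernel

theorem mates_ok : ((List.range 276).all fun i => (List.range 24).all fun j =>
    co (mate i) j == co kD j - co (key i) j) = true := by decide +kernel

theorem keys_distinct : ((List.range 276).all fun i => (key i != mate i) && (List.range i).all fun j =>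
    (key i != key j) && (key i != mate j) && (mate i != key j) && (mate i != mate j)) = true := by decide +kernel

/-- The atoms of a generator. -/
def atomsOf (j : ℕ) : List Atom := if j = 0 then gen0 else gen1

theorem atoms_ok : ((List.range 2).all fun j => (atomsOf j).all (·.ok) && (Stab.evalW (atomsOf j) kD == kD) &&
    ((List.range 276).all fun i =>
      (Stab.evalW (atomsOf j) (key i) == key (Cfsg.Lib.PermCert.ap (data.xTabs.getD (8 + j) (0, 0)).1 i)) ||
        (Stab.evalW (atomsOf j) (key i) == mate (Cfsg.Lib.PermCert.ap (data.xTabs.getD (8 + j) (0, 0)).1 i)))) = true := by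
  decide +kernel

theorem perms_ok : ((List.range 4).all fun l => data.sameW [l] (genPerms.getD l []) &&
    (genPerms.getD l []).all fun a => a == 8 || a == 9) = true := by decide +kernel

theorem letter_moves : (List.range 276).any (fun i => Cfsg.Lib.PermCert.ap (data.xTabs.getD 0 (0, 0)).1 i != i) = true := by
  decide +kernel

end Cfsg.Lib.CoThreeModel
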